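import Mathlib
import Groth.Prelude.Def_W4bk4goldsch45p2
import Groth.Agent.Lib.Helper4.FF.LLS
import Groth.Agent.Lib.Helper4.FF.LLSCusp
import Groth.Agent.S12603
import Groth.Agent.S12607
import Groth.Agent.S12608
import Groth.Agent.S12611
import Groth.Agent.S12614

/-! Torsion points on curves of genus one: finiteness via the Weierstrass divisor (helper9). -/

namespace Groth.Agent.Helper9.Tors

open FunFld WithZero Groth.Agent.Lib.Helper4.FF Groth.Agent.Helper9.FFExt

variable {k K : Type*} [Field k] [Field K] [Algebra k K]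


section PartA

variable [IsAlgClosed k]

theorem ell_le_one_of_deg_zero (hK : IsFunctionField k K) {E : Divisor k K} (hE : E.deg = 0)
    (P : Place k K) : ell E ≤ 1 := by
  classical
  have hle : E - Finsupp.single P 1 ≤ E := by
    rw [sub_le_self_iff]
    intro R
    rw [Finsupp.zero_apply, Finsupp.single_apply]
    split_ifs <;> omega
  have h1 := ell_sub_le hK hle
  have h2 : L (E - Finsupp.single P 1) = ⊥ := L_eq_bot_of_deg_neg hK (by
    rw [Divisor.deg_sub, Divisor.deg_single, Place.deg_eq_one hK P, hE]; norm_num)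
  have h3 : ell (E - Finsupp.single P 1) = 0 := by
    unfold FunFld.ell
    rw [h2]
    exact finrank_bot k K
  rw [h3, Divisor.deg_sub, Divisor.deg_single, Place.deg_eq_one hK P, hE] at h1
  push_cast at h1
  omega

theorem diag_le (hK : IsFunctionField k K) {V : Submodule k K} {D : Divisor k K} {r d : ℕ}
    (hV : V ≤ L D) (hr : Module.finrank k V = r + 1) (hd : D.deg = d) {P Q : Place k K}
    (hPQ : P ≠ Q) (n : ℕ) (hn : n ≤ d) :
    vd V D P (n : ℤ) + vd V D Q ((d : ℤ) - n) ≤ r + 2 ∧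
    (vd V D P (n : ℤ) + vd V D Q ((d : ℤ) - n) = r + 2 →
      ∃ f : K, f ≠ 0 ∧ f ∈ L (D - (Finsupp.single P (n : ℤ) + Finsupp.single Q ((d : ℤ) - n)))) := by
  classical
  have hfV : Module.Finite k V := Module.finite_of_finrank_pos (by omega)
  unfold vd
  set X := V ⊓ L (D - Finsupp.single P (n : ℤ)) with hX
  set Y := V ⊓ L (D - Finsupp.single Q ((d : ℤ) - n)) with hY
  have hfX := finite_inf_L hK V (D - Finsupp.single P (n : ℤ))
  have hfY := finite_inf_L hK V (D - Finsupp.single Q ((d : ℤ) - n))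
  have hle : X ⊓ Y ≤ L (D - (Finsupp.single P (n : ℤ) + Finsupp.single Q ((d : ℤ) - n))) := by
    intro x hx
    have hx1 : x ∈ L (D - Finsupp.single P (n : ℤ)) := hx.1.2
    have hx2 : x ∈ L (D - Finsupp.single Q ((d : ℤ) - n)) := hx.2.2
    intro R
    by_cases hR : R = Q
    · subst hR
      refine (hx2 R).trans (exp_le_exp.mpr ?_)
      rw [Finsupp.sub_apply, Finsupp.sub_apply, Finsupp.add_apply, Finsupp.single_eq_same,
        Finsupp.single_apply, if_neg hPQ]
      omega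
    · refine (hx1 R).trans (exp_le_exp.mpr ?_)
      rw [Finsupp.sub_apply, Finsupp.sub_apply, Finsupp.add_apply,
        Finsupp.single_apply (a := Q), if_neg (Ne.symm hR)]
      omega
  have hdeg : (D - (Finsupp.single P (n : ℤ) + Finsupp.single Q ((d : ℤ) - n))).deg = 0 := by
    rw [Divisor.deg_sub, Divisor.deg_add, Divisor.deg_single, Divisor.deg_single,
      Place.deg_eq_one hK P, Place.deg_eq_one hK Q, hd]
    push_cast
    ring
  have hfE := L_finite hK (D - (Finsupp.single P (n : ℤ) + Finsupp.single Q ((d : ℤ) - n)))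
  have h0 : Module.finrank k ↥(X ⊓ Y) ≤ 1 :=
    (Submodule.finrank_mono hle).trans (ell_le_one_of_deg_zero hK hdeg P)
  have h1 := Submodule.finrank_sup_add_finrank_inf_eq X Y
  have h2 : Module.finrank k ↥(X ⊔ Y) ≤ Module.finrank k V :=
    Submodule.finrank_mono (sup_le inf_le_left inf_le_left)
  refine ⟨by omega, fun heq => ?_⟩
  have hpos : 0 < Module.finrank k ↥(X ⊓ Y) := by omega
  have : Nontrivial ↥(X ⊓ Y) := Module.nontrivial_of_finrank_pos hpos
  obtain ⟨z, hz⟩ := exists_ne (0 : ↥(X ⊓ Y))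
  exact ⟨z, fun h0 => hz (Subtype.ext h0), hle z.2⟩

theorem exists_torsion_fun (hK : IsFunctionField k K) {V : Submodule k K} {D : Divisor k K}
    {r d : ℕ} (hV : V ≤ L D) (hr : Module.finrank k V = r + 1) (hd : D.deg = d)
    {P Q : Place k K} (hPQ : P ≠ Q)
    (hw : (r + 1) * d + 1 ≤
      (∑ n ∈ Finset.range d, Module.finrank k ↥(V ⊓ L (D - Finsupp.single P ((n : ℤ) + 1)))) +
      (∑ n ∈ Finset.range d, Module.finrank k ↥(V ⊓ L (D - Finsupp.single Q ((n : ℤ) + 1)))) + r) :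
    ∃ N : ℕ, N < d ∧ ∃ h : K, h ≠ 0 ∧
      h ∈ L (Finsupp.single P ((N : ℤ) + 1) - Finsupp.single Q ((N : ℤ) + 1)) := by
  classical
  have hG : IsGrd V D r d := ⟨hV, hr, hd⟩
  set a : ℤ → ℕ := fun n => vd V D P n with ha
  set b : ℤ → ℕ := fun n => vd V D Q n with hb
  have hdiag := diag_sum d a b
  have ha0 : a 0 = r + 1 := hG.vd_zero P
  have hb0 : b 0 = r + 1 := hG.vd_zero Q
  have hbound : ∀ m ≤ d, a (m : ℤ) + b ((d : ℤ) - m) ≤ (r + 1) + 1 := fun m hm =>
    (diag_le hK hV hr hd hPQ m hm).1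
  have hcard := sum_le_card_max d (r + 1) (fun m : ℕ => a (m : ℤ) + b ((d : ℤ) - m)) hbound
  have hw' : (r + 1) * d + 1 ≤ (∑ n ∈ Finset.range d, a ((n : ℤ) + 1)) +
      (∑ n ∈ Finset.range d, b ((n : ℤ) + 1)) + r := hw
  have hcard2 : 1 < ((Finset.range (d + 1)).filter
      fun m : ℕ => a (m : ℤ) + b ((d : ℤ) - m) = r + 1 + 1).card := by
    rw [hdiag, ha0, hb0] at hcard
    have : (d + 1) * (r + 1) = (r + 1) * d + (r + 1) := by ring
    omega
  obtain ⟨n1, hn1, n2, hn2, hne⟩ := Finset.one_lt_card.mp hcard2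
  rw [Finset.mem_filter, Finset.mem_range] at hn1 hn2
  -- WLOG `n1 < n2`
  have key : ∀ n1 n2 : ℕ, n1 < n2 → n2 < d + 1 →
      a (n1 : ℤ) + b ((d : ℤ) - n1) = r + 1 + 1 → a (n2 : ℤ) + b ((d : ℤ) - n2) = r + 1 + 1 →
      ∃ N : ℕ, N < d ∧ ∃ h : K, h ≠ 0 ∧
        h ∈ L (Finsupp.single P ((N : ℤ) + 1) - Finsupp.single Q ((N : ℤ) + 1)) := by
    intro n1 n2 hlt hn2d h1 h2
    obtain ⟨f1, hf1, hf1L⟩ := (diag_le hK hV hr hd hPQ n1 (by omega)).2 h1
    obtain ⟨f2, hf2, hf2L⟩ := (diag_le hK hV hr hd hPQ n2 (by omega)).2 h2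
    have hdegE : ∀ m : ℕ, Divisor.deg (Finsupp.single P (m : ℤ) + Finsupp.single Q ((d : ℤ) - m) :
        Divisor k K) = D.deg := by
      intro m
      rw [Divisor.deg_add, Divisor.deg_single, Divisor.deg_single,
        Place.deg_eq_one hK P, Place.deg_eq_one hK Q, hd]
      push_cast
      ring
    have e1 := div_add_eq_of_deg_eq hK hf1 hf1L (hdegE n1)
    have e2 := div_add_eq_of_deg_eq hK hf2 hf2L (hdegE n2)
    refine ⟨n2 - n1 - 1, by omega, f1 / f2, div_ne_zero hf1 hf2, ?_⟩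
    have hdiv : div k (f1 / f2) = Finsupp.single Q (((n2 - n1 - 1 : ℕ) : ℤ) + 1) -
        Finsupp.single P (((n2 - n1 - 1 : ℕ) : ℤ) + 1) := by
      rw [div_div hK hf1 hf2]
      have e3 : div k f1 - div k f2 = (Finsupp.single P (n1 : ℤ) + Finsupp.single Q ((d : ℤ) - n1)) -
          (Finsupp.single P (n2 : ℤ) + Finsupp.single Q ((d : ℤ) - n2)) := by
        rw [← e1, ← e2]; abel
      rw [e3]
      have hc : (((n2 - n1 - 1 : ℕ) : ℤ) + 1) = (n2 : ℤ) - n1 := by omega
      rw [hc]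
      ext R
      simp only [Finsupp.sub_apply, Finsupp.add_apply, Finsupp.single_apply]
      split_ifs <;> omega
    intro R
    rw [Place.val_eq_exp_neg_ord R (div_ne_zero hf1 hf2), exp_le_exp, ← div_apply hK, hdiv]
    simp only [Finsupp.sub_apply]
    omega
  rcases Nat.lt_or_gt_of_ne hne with hlt | hlt
  · exact key n1 n2 hlt hn2.1 hn1.2 hn2.2
  · exact key n2 n1 hlt hn1.1 hn2.2 hn1.2

end PartA

section PartC

variable [IsAlgClosed k]

theorem finite_torsion [CharZero k] (hK : IsFunctionField k K) (hg1 : genus k K = 1)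
    (P : Place k K) (n : ℕ) :
    Set.Finite {Q : Place k K | Q ≠ P ∧ ∃ h : K, h ≠ 0 ∧
      h ∈ L (Finsupp.single P ((n : ℤ) + 1) - Finsupp.single Q ((n : ℤ) + 1))} := by
  classical
  have hKw := isFFw_of_isFunctionField hK
  have hg := isGeometric_of_isAlgClosed k K
  have hdegP := Place.deg_eq_one hK P
  -- the basis of `L((n+1)P)`
  have hell : ell (Finsupp.single P ((n : ℤ) + 1) : Divisor k K) = n + 1 := by
    have h1 := ell_eq_of_deg_ge hK (D := (Finsupp.single P ((n : ℤ) + 1) : Divisor k K)) (by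
      rw [Divisor.deg_single, hdegP, hg1]; push_cast; omega)
    rw [Divisor.deg_single, hdegP, hg1] at h1
    push_cast at h1
    omega
  have hfinL := L_finite hK (Finsupp.single P ((n : ℤ) + 1) : Divisor k K)
  let b := Module.finBasisOfFinrankEq k (L (Finsupp.single P ((n : ℤ) + 1) : Divisor k K)) hell
  obtain ⟨φ, hφdef⟩ : ∃ φ : Fin (n + 1) → K, φ = fun i => (b i : K) := ⟨_, rfl⟩
  have hφ : LinearIndependent k φ := by
    rw [hφdef]
    exact b.linearIndependent.map' (Submodule.subtype _) (Submodule.ker_subtype _)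
  have hspan : Submodule.span k (Set.range φ) =
      L (Finsupp.single P ((n : ℤ) + 1) : Divisor k K) := by
    have : Set.range φ = (Submodule.subtype _) '' Set.range b := by
      rw [hφdef, ← Set.range_comp]; rfl
    rw [this, ← Submodule.map_span, b.span_eq, Submodule.map_top, Submodule.range_subtype]
  have heff : (1 : K) ∈ Submodule.span k (Set.range φ) := by
    rw [hspan]
    intro R
    rw [map_one]
    by_cases hR : R = P
    · subst hR
      rw [Finsupp.single_eq_same, ← exp_zero, exp_le_exp]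
      omega
    · rw [Finsupp.single_eq_of_ne hR, exp_zero]
  -- global Hasse family
  obtain ⟨s, hs⟩ := Place.exists_uniformizer P
  obtain ⟨ε, hε, -, -⟩ := exists_expansion_of_deg_one P hdegP s hs
  have hDs : KaehlerDifferential.D k K s ≠ 0 :=
    D_ne_zero_of_vDiff ε (Groth.Agent.S12610.Aux.vDiff_param P ε hε s hs)
  have hst := transcendental_of_D_ne_zero hK hDs
  obtain ⟨Hs, hHs⟩ := exists_hasse hKw hg hDs hst
  obtain ⟨J, hJ, -⟩ := exists_isOrders_det_ne_zero hK hg hHs hφ (AlgHom.id k K)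
  -- the orders are classical
  have hJle : ∀ l, J l ≤ (l : ℕ) + 1 := by
    intro l
    have hI : StrictMono (fun l : Fin n => (l : ℕ) + 1) := by
      intro a b hab
      have : (a : ℕ) < b := hab
      simp only
      omega
    exact Groth.Agent.S12611.Aux.core k K hK φ hφ (Or.inl (CharP.ringChar_zero_iff_CharZero k |>.mpr inferInstance))
      (AlgHom.id k K) P (fun z hz => hz) s Hs hHs _ hI (Or.inl rfl) J hJ l
  -- expansions everywhere
  have hexp : ∀ Q : Place k K, ∃ Φ : K →ₐ[k] LaurentSeries k, LocRes.IsExpansionAt Q.1 Φ := by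
    intro Q
    obtain ⟨t, ht⟩ := Place.exists_uniformizer Q
    obtain ⟨Φ, hΦ, -, -⟩ := exists_expansion_of_deg_one Q (Place.deg_eq_one hK Q) t ht
    exact ⟨Φ, hΦ⟩
  choose Φ hΦ using hexp
  have hW := (Groth.Agent.S12603.result k K hK φ hφ (AlgHom.id k K) s Hs hHs J hJ Φ hΦ).1
  refine (Finset.finite_toSet (wDiv (AlgHom.id k K) Hs Φ s φ J).support).subset ?_
  rintro Q ⟨hQP, h, hh0, hh⟩
  rw [Finset.mem_coe, Finsupp.mem_support_iff]
  intro hWQ
  have hdegQ := Place.deg_eq_one hK Q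
  obtain ⟨t, ht⟩ := Place.exists_uniformizer Q
  obtain ⟨ε', hε', -, -⟩ := exists_expansion_of_deg_one Q hdegQ t ht
  have hDt : KaehlerDifferential.D k K t ≠ 0 :=
    D_ne_zero_of_vDiff ε' (Groth.Agent.S12610.Aux.vDiff_param Q ε' hε' t ht)
  have htt := transcendental_of_D_ne_zero hK hDt
  obtain ⟨Ht, hHt⟩ := exists_hasse hKw hg hDt htt
  obtain ⟨E⟩ := exists_hasseExp hK hg Q hdegQ t ht Ht hHt
  have hnorm : ∀ i, Q.1 (φ i) ≤ 1 := by
    intro i
    have hmem : φ i ∈ L (Finsupp.single P ((n : ℤ) + 1) : Divisor k K) := by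
      rw [← hspan]
      exact Submodule.subset_span ⟨i, rfl⟩
    have := hmem Q
    rwa [Finsupp.single_eq_of_ne hQP, exp_zero] at this
  obtain ⟨J', hJ'⟩ := exists_local_orders E φ hφ heff hnorm
  have hJt : IsOrders K (hcol (AlgHom.id k K) Ht φ) J :=
    ((var_change hKw hg hHs hHt (AlgHom.id k K) φ hφ).1 J).mpr hJ
  have h08 := Groth.Agent.S12608.result k K hK Q φ hφ heff hnorm t ht Ht hHt J hJt J' hJ' Φ hΦ
  have h14 := Groth.Agent.S12614.result k K hK φ hφ (AlgHom.id k K) s Hs hHs t Ht hHt J hJ 1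
    (by rw [Matrix.det_one]; exact one_ne_zero) 1 one_ne_zero φ (by
      intro i
      rw [one_mul]
      simp [Matrix.one_apply]) Φ hΦ
  have hJJ' : ∀ l, J' l = J l := h08.2.2.mpr (by rw [h14]; exact hWQ)
  -- the function `h` has order at least `n + 1` at `Q`
  have hhL : h ∈ Submodule.span k (Set.range φ) := by
    rw [hspan]
    intro R
    refine (hh R).trans (exp_le_exp.mpr ?_)
    rw [Finsupp.sub_apply]
    have : (0 : ℤ) ≤ (Finsupp.single Q ((n : ℤ) + 1) : Divisor k K) R := by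
      rw [Finsupp.single_apply]
      split_ifs <;> omega
    omega
  have hQh : Q.1 h ≤ exp (-((n : ℤ) + 1)) := by
    have := hh Q
    rwa [Finsupp.sub_apply, Finsupp.single_eq_same, Finsupp.single_eq_of_ne hQP, zero_sub] at this
  have hord : Q.1 h = exp (-(Q.ord h)) := Place.val_eq_exp_neg_ord Q hh0
  have hordge : (n : ℤ) + 1 ≤ Q.ord h := by
    rw [hord, exp_le_exp] at hQh
    omega
  obtain ⟨j, hj⟩ : ∃ j : ℕ, (j : ℤ) = Q.ord h := ⟨(Q.ord h).toNat, Int.toNat_of_nonneg (by omega)⟩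
  have hjmem := ((Groth.Agent.S12607.result k K hK Q φ hφ heff hnorm t ht Ht hHt J' hJ').2 j).mpr
    ⟨h, hhL, by rw [hord, hj]⟩
  rcases hjmem with hj0 | ⟨l, hl⟩
  · omega
  · have h1 := hJJ' l
    have h2 := hJle l
    have h3 := l.2
    omega

theorem main_finite [CharZero k] (hK : IsFunctionField k K) (hg1 : genus k K = 1)
    (P : Place k K) (d r : ℕ) :
    Set.Finite {Q : Place k K | Q ≠ P ∧ ∃ (D : Divisor k K) (V : Submodule k K),
      D.deg = d ∧ V ≤ L D ∧ Module.finrank k ↥V = r + 1 ∧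
      (r + 1) * d + 1 ≤
        (∑ n ∈ Finset.range d, Module.finrank k ↥(V ⊓ L (D - Finsupp.single P ((n : ℤ) + 1)))) +
          (∑ n ∈ Finset.range d, Module.finrank k ↥(V ⊓ L (D - Finsupp.single Q ((n : ℤ) + 1)))) + r} := by
  refine (Set.Finite.biUnion (Finset.finite_toSet (Finset.range d))
    (fun N _ => finite_torsion hK hg1 P N)).subset ?_
  rintro Q ⟨hQP, D, V, hd, hV, hr, hw⟩
  obtain ⟨N, hN, h, hh0, hh⟩ := exists_torsion_fun hK hV hr hd (Ne.symm hQP) hw
  rw [Set.mem_iUnion₂]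
  exact ⟨N, Finset.mem_coe.mpr (Finset.mem_range.mpr hN), hQP, h, hh0, hh⟩

end PartC

end Groth.Agent.Helper9.Tors
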